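import Mathlib.RingTheory.LocalRing.Module
import Mathlib.RingTheory.LocalRing.ResidueField.Ideal
import Mathlib.RingTheory.Spectrum.Prime.FreeLocus
import Mathlib.RingTheory.Nilpotent.Lemmas
import Mathlib.RingTheory.LocalProperties.Reduced
import Mathlib.FieldTheory.IsAlgClosed.AlgebraicClosure

/-!
# Constant fibre dimension over a reduced ring implies projective
-/

universe u

open TensorProduct

set_option linter.style.haveILetI false

namespace Groth.Agent.H9RedFlat

theorem free_local {R : Type u} [CommRing R] [IsLocalRing R] [IsReduced R] (M : Type u) [AddCommGroup M] [Module R M]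
    [Module.Finite R M] (n : ℕ)
    (h : ∀ (K : Type u) [Field K] [Algebra R K], Module.finrank K (K ⊗[R] M) = n) : Module.Free R M := by
  classical
  let k := IsLocalRing.ResidueField R
  let b := Module.finBasisOfFinrankEq k (k ⊗[R] M) (h k)
  choose v hv using fun i => TensorProduct.mk_surjective R M k IsLocalRing.residue_surjective (b i)
  let π : (Fin n → R) →ₗ[R] M := Fintype.linearCombination R v
  have hπ : Function.Surjective π := by
    rw [← LinearMap.range_eq_top, Fintype.range_linearCombination]
    exact IsLocalRing.span_eq_top_of_tmul_eq_basis v b hv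
  have hinj : Function.Injective π := by
    rw [injective_iff_map_eq_zero]
    intro a ha
    funext i
    refine IsReduced.eq_zero _ (nilpotent_iff_mem_prime.2 fun q hq => ?_)
    let K := q.ResidueField
    let e : K ⊗[R] (Fin n → R) ≃ₗ[K] (Fin n → K) := TensorProduct.piScalarRight R K K (Fin n)
    have hs : Function.Surjective (π.baseChange K) := by
      show Function.Surjective (π.lTensor K)
      exact LinearMap.lTensor_surjective K hπ
    have hd : Module.finrank K (K ⊗[R] (Fin n → R)) = Module.finrank K (K ⊗[R] M) := by
      rw [h K, e.finrank_eq]; simp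
    have hi : Function.Injective (π.baseChange K) :=
      (LinearMap.injective_iff_surjective_of_finrank_eq_finrank hd).2 hs
    have h0 : (1 : K) ⊗ₜ[R] a = 0 := hi (by rw [LinearMap.baseChange_tmul, ha, map_zero, TensorProduct.tmul_zero])
    have h1 := congrFun (congrArg e h0) i
    rw [map_zero] at h1
    simp only [e, TensorProduct.piScalarRight_apply, TensorProduct.piScalarRightHom_tmul, Pi.zero_apply,
      ← Algebra.algebraMap_eq_smul_one] at h1
    exact Ideal.algebraMap_residueField_eq_zero.1 h1
  exact Module.Free.of_equiv (LinearEquiv.ofBijective π ⟨hinj, hπ⟩)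

theorem projective_of_finrank_eq {A : Type u} [CommRing A] [IsReduced A] (M : Type u) [AddCommGroup M] [Module A M]
    [Module.FinitePresentation A M] (n : ℕ)
    (h : ∀ (K : Type u) [Field K] [IsAlgClosed K] [Algebra A K], Module.finrank K (K ⊗[A] M) = n) :
    Module.Projective A M := by
  have h' : ∀ (K : Type u) [Field K] [Algebra A K], Module.finrank K (K ⊗[A] M) = n := fun K _ _ => by
    have := h (AlgebraicClosure K)
    rw [← (AlgebraTensorModule.cancelBaseChange A K (AlgebraicClosure K) (AlgebraicClosure K) M).finrank_eq,
      Module.finrank_baseChange] at this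
    exact this
  refine Module.freeLocus_eq_univ_iff.1 (Set.eq_univ_of_forall fun p => ?_)
  let L := Localization.AtPrime p.asIdeal
  haveI : IsReduced L := inferInstance
  let M' := LocalizedModule p.asIdeal.primeCompl M
  haveI : Module.Finite L M' :=
    Module.Finite.of_isLocalizedModule p.asIdeal.primeCompl (LocalizedModule.mkLinearMap p.asIdeal.primeCompl M)
  refine free_local (R := L) M' n fun K _ _ => ?_
  letI : Algebra A K := ((algebraMap L K).comp (algebraMap A L)).toAlgebra
  haveI : IsScalarTower A L K := IsScalarTower.of_algebraMap_eq fun _ => rfl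
  rw [← h' K]
  exact ((AlgebraTensorModule.congr (LinearEquiv.refl K K)
    (LocalizedModule.isBaseChange p.asIdeal.primeCompl M).equiv.symm).trans
      (AlgebraTensorModule.cancelBaseChange A L K K M)).finrank_eq

end Groth.Agent.H9RedFlat
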