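import Groth.Agent.H9RedFlat.Ring
import Groth.Agent.H23.CoverPush

/-!
# Finite morphisms with constant fibre degree over a reduced base are flat
-/

universe u

open CategoryTheory CategoryTheory.Limits AlgebraicGeometry TopologicalSpace TensorProduct

set_option linter.style.haveILetI false
set_option backward.isDefEq.respectTransparency false

namespace Groth.Agent.H9RedFlat

theorem flat_of_finrank_eq {X Y : Scheme.{u}} (f : X ⟶ Y) [IsFinite f] [LocallyOfFinitePresentation f] [IsReduced Y]
    (n : ℕ) (h : ∀ (K : Type u) [Field K] [IsAlgClosed K] (g : Spec (CommRingCat.of K) ⟶ Y),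
      (pullback.snd f g).finrank (IsLocalRing.closedPoint K) = n) : Flat f := by
  have hloc : ∀ (U : Y.Opens) (hU : IsAffineOpen U), Flat (f ∣_ U) := fun U hU => by
    letI := H23.CoverPush.alg f U
    have hp := H23.CoverPush.isPullback_fromSpec f hU
    haveI : IsFinite (Spec.map (f.app U)) := MorphismProperty.of_isPullback hp.flip inferInstance
    haveI : LocallyOfFinitePresentation (Spec.map (f.app U)) := MorphismProperty.of_isPullback hp.flip inferInstance
    haveI : Module.Finite Γ(Y, U) Γ(X, f ⁻¹ᵁ U) := (IsFinite.SpecMap_iff (f.app U)).mp inferInstance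
    haveI : Algebra.FinitePresentation Γ(Y, U) Γ(X, f ⁻¹ᵁ U) := (LocallyOfFinitePresentation.SpecMap_iff (f := f.app U)).mp inferInstance
    haveI : Module.FinitePresentation Γ(Y, U) Γ(X, f ⁻¹ᵁ U) := Module.FinitePresentation.of_finite_of_finitePresentation _ _
    haveI : _root_.IsReduced Γ(Y, U) := inferInstance
    haveI : Module.Projective Γ(Y, U) Γ(X, f ⁻¹ᵁ U) := by
      refine projective_of_finrank_eq _ n fun K _ _ _ => ?_
      let a : Γ(Y, U) ⟶ CommRingCat.of K := CommRingCat.ofHom (algebraMap Γ(Y, U) K)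
      have hsq : IsPullback _ (Spec.map (CommRingCat.ofHom (algebraMap K (K ⊗[Γ(Y, U)] Γ(X, f ⁻¹ᵁ U)))))
          (Spec.map (f.app U)) (Spec.map a) :=
        isPullback_SpecMap_of_isPushout _ _ _ _ (CommRingCat.isPushout_tensorProduct Γ(Y, U) K Γ(X, f ⁻¹ᵁ U)).flip
      have big := hsq.paste_horiz hp.flip
      have h1 := h K (Spec.map a ≫ hU.fromSpec)
      haveI : IsFinite (Spec.map (CommRingCat.ofHom (algebraMap K (K ⊗[Γ(Y, U)] Γ(X, f ⁻¹ᵁ U))))) :=
        MorphismProperty.of_isPullback big inferInstance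
      haveI : Module.Finite K (K ⊗[Γ(Y, U)] Γ(X, f ⁻¹ᵁ U)) := inferInstance
      haveI : Flat (Spec.map (CommRingCat.ofHom (algebraMap K (K ⊗[Γ(Y, U)] Γ(X, f ⁻¹ᵁ U))))) := by
        rw [Flat.SpecMap_iff]
        exact RingHom.flat_algebraMap_iff.2 inferInstance
      haveI : IsFinite (pullback.snd f (Spec.map a ≫ hU.fromSpec)) := inferInstance
      haveI : Flat (pullback.snd f (Spec.map a ≫ hU.fromSpec)) := by
        rw [← MorphismProperty.cancel_left_of_respectsIso @Flat big.isoPullback.hom, big.isoPullback_hom_snd]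
        infer_instance
      have h2 := Scheme.Hom.finrank_SpecMap_algebraMap K (K ⊗[Γ(Y, U)] Γ(X, f ⁻¹ᵁ U)) (IsLocalRing.closedPoint K)
      rw [← big.isoPullback_hom_snd, Scheme.Hom.finrank_comp_left_of_isIso, h1,
        Module.rankAtStalk_eq_finrank_of_free, Pi.natCast_apply] at h2
      exact_mod_cast h2.symm
    have e1 : Arrow.mk (f ∣_ U) ≅ Arrow.mk (Spec.map (f.app U)) :=
      Arrow.isoMk (hU.preimage f).isoSpec hU.isoSpec (by
        rw [← cancel_mono hU.fromSpec]
        show ((hU.preimage f).isoSpec.hom ≫ Spec.map (f.app U)) ≫ hU.fromSpec =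
          ((f ∣_ U) ≫ hU.isoSpec.hom) ≫ hU.fromSpec
        rw [Category.assoc, hp.w, Category.assoc, IsAffineOpen.isoSpec_hom_fromSpec,
          ← Category.assoc, IsAffineOpen.isoSpec_hom_fromSpec, morphismRestrict_ι])
    rw [MorphismProperty.arrow_mk_iso_iff @Flat e1, Flat.SpecMap_iff]
    exact (inferInstance : Module.Flat Γ(Y, U) Γ(X, f ⁻¹ᵁ U))
  exact IsZariskiLocalAtTarget.of_iSup_eq_top (P := @Flat) (fun U : Y.affineOpens => U.1) (iSup_affineOpens_eq_top _)
    fun U => hloc U.1 U.2

end Groth.Agent.H9RedFlat
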